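import Mathlib
import Cfsg.Agent.Lib.CosetTable.Check

/-! Generated certificate data for the coset table `ONLevel3`. -/

namespace Cfsg.Agent.Lib.CosetTable.ONLevel3

open Cfsg.Agent.Lib.CosetTable

set_option maxRecDepth 10000

noncomputable def facts : T := .leaf 0x8000043000008000042000008000041000004000040000004000023000004000022000000000021000000000003000000000002000000000000000000000007000000000006000000000005

noncomputable def defs : T := .leaf 0x20000000000001000000000000

noncomputable def nodeT : ℕ := 0x2000001000000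

noncomputable def parT : ℕ := 0x20000001000000

noncomputable def perm0 : ℕ := 0x100020000

noncomputable def eid0 : ℕ := 0x9000009000003

noncomputable def perm1 : ℕ := 0x200000001

noncomputable def eid1 : ℕ := 0xa000006000006

noncomputable def perm2 : ℕ := 0x200010000

noncomputable def eid2 : ℕ := 0xb000007000004

noncomputable def perm3 : ℕ := 0x200010000

noncomputable def eid3 : ℕ := 0xc000008000005

noncomputable def rulesT : RT := .node (.node (.node (.leaf 0 [5] 20 0) (.leaf 3 [1, 3, 1] 6 0)) (.node (.leaf 3 [7] 22 0) (.leaf 2 [0, 2, 0] 2 0))) (.node (.node (.leaf 2 [6] 21 0) (.leaf 1 [0, 1, 0, 1, 0] 1 0)) (.node (.leaf 2 [1, 2, 1] 5 0) (.leaf 3 [0, 3, 0] 3 0)))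

noncomputable def relsL : List (List ℕ) := [[0, 0],
  [0, 1, 0, 1, 0, 1],
  [0, 2, 0, 2],
  [0, 3, 0, 3],
  [1, 1],
  [1, 2, 1, 2],
  [1, 3, 1, 3],
  [2, 2],
  [2, 3, 2, 3, 2, 3],
  [3, 3]]

noncomputable def subsL : List (List ℕ) := [[0],
  [2],
  [3]]

noncomputable def cert : Cert where
  k := 4
  rels := relsL
  subs := subsL
  rules := rulesT
  facts := facts
  defs := defs

noncomputable def tab : Table where
  n := 3
  k := 4
  node := nodeT
  perms := [perm0, perm1, perm2, perm3]
  eids := [eid0, eid1, eid2, eid3]
  par := parT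

end Cfsg.Agent.Lib.CosetTable.ONLevel3
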