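import Cfsg.Agent.Lib.CosetTable.Sound
import Cfsg.Agent.Lib.CosetTable.ONLevel3.Data

/-! Generated certificate data for the coset table `ONLevel3`. -/

namespace Cfsg.Agent.Lib.CosetTable.ONLevel3

open Cfsg.Agent.Lib.CosetTable

noncomputable def streams0 : List (ℕ × ℕ) := [(13, 0x1200001000001300000300000900001200000e00001300000300000800001200000c00000600000d00001300000500000700000000000000000c00000a00000d00000300000600000c00000800000d000003000005000000000000000004000001000004000002000001000003000000000001000002000000000001000000000001000000000001)]

theorem run0 : cert.goStreams streams0 0 = true := by decide +kernel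

theorem part1 (h : cert.Upto 0) : cert.Upto 13 :=
  (h).step (b := 13) run0 rfl

end Cfsg.Agent.Lib.CosetTable.ONLevel3
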